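import Groth.Prelude.Def_Coh
import Mathlib

/-!
A flat base change of a birational integral scheme, over a domain, is integral.
-/

set_option autoImplicit false
set_option backward.isDefEq.respectTransparency false
set_option backward.isDefEq.respectTransparency.types false
set_option linter.style.haveILetI false

universe u

open CategoryTheory CategoryTheory.Limits AlgebraicGeometry TopologicalSpace

noncomputable section

namespace Groth.Agent.RatLocal

theorem isIntegral_pullback_of_birational {A C : Type u} [CommRing A] [CommRing C] [IsDomain C] [Algebra A C]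
    [Module.Flat A C] {Y P : Scheme.{u}} [IsIntegral Y] (f : Y ⟶ Spec (CommRingCat.of A)) (a : A)
    (ha : algebraMap A C a ≠ 0) [IsIso (f ∣_ PrimeSpectrum.basicOpen a)]
    {k : P ⟶ Y} {p : P ⟶ Spec (CommRingCat.of C)}
    (h : IsPullback k p f (Spec.map (CommRingCat.ofHom (algebraMap A C)))) : IsIntegral P := by
  classical
  let σ := Spec.map (CommRingCat.ofHom (algebraMap A C))
  haveI : Flat σ := by
    rw [HasRingHomProperty.Spec_iff (P := @Flat)]
    exact RingHom.flat_algebraMap_iff.mpr inferInstance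
  haveI : Flat k := MorphismProperty.of_isPullback (P := @Flat) h.flip inferInstance
  let D : (Spec (CommRingCat.of A)).Opens := PrimeSpectrum.basicOpen a
  let E : P.Opens := p ⁻¹ᵁ (σ ⁻¹ᵁ D)
  have hpi : IsIso (p ∣_ σ ⁻¹ᵁ D) := by
    have hA := (isPullback_morphismRestrict p (σ ⁻¹ᵁ D)).flip
    have hB := hA.paste_horiz h
    rw [← morphismRestrict_ι σ D] at hB
    have hD := IsPullback.of_right' hB (isPullback_morphismRestrict f D).flip
    exact MorphismProperty.of_isPullback (P := MorphismProperty.isomorphisms Scheme.{u}) hD ‹IsIso (f ∣_ D)›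
  haveI := hpi
  haveI : Nonempty (σ ⁻¹ᵁ D : (Spec (CommRingCat.of C)).Opens).toScheme :=
    ⟨⟨(⟨⊥, Ideal.bot_prime⟩ : PrimeSpectrum C), fun h => ha (Ideal.mem_bot.1 h)⟩⟩
  haveI : Nonempty (E : Scheme.{u}) := ⟨(asIso (p ∣_ σ ⁻¹ᵁ D)).inv.base (Classical.arbitrary _)⟩
  haveI : IsIntegral ((σ ⁻¹ᵁ D : (Spec (CommRingCat.of C)).Opens).toScheme) :=
    isIntegral_of_isOpenImmersion (σ ⁻¹ᵁ D).ι
  haveI : IsIntegral (E : Scheme.{u}) := isIntegral_of_isOpenImmersion (p ∣_ σ ⁻¹ᵁ D)
  -- the open `E` is the non-vanishing locus of a non-zero-divisor on every small affine open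
  have hE : E = P.basicOpen (Coh.toGlobal (k ≫ f) a : Γ(P, ⊤)) := by
    show p ⁻¹ᵁ (σ ⁻¹ᵁ D) = _
    rw [← Scheme.Hom.comp_preimage, ← h.w]
    show (k ≫ f) ⁻¹ᵁ D = P.basicOpen ((k ≫ f).appTop ((Scheme.ΓSpecIso (CommRingCat.of A)).inv a))
    refine Eq.trans ?_ (Scheme.preimage_basicOpen (k ≫ f) _)
    rw [basicOpen_eq_of_affine]
  have key : ∀ x : P, ∀ O : P.Opens, x ∈ O → ∃ V : P.Opens, IsAffineOpen V ∧ x ∈ V ∧ V ≤ O ∧
      ∃ g : Γ(P, V), g ∈ nonZeroDivisors Γ(P, V) ∧ P.basicOpen g = V ⊓ E := by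
    intro x O hx
    obtain ⟨U, hU, hxU, -⟩ := exists_isAffineOpen_mem_and_subset (X := Y) (x := k x) (U := ⊤) trivial
    obtain ⟨V, hV, hxV, hVO⟩ := exists_isAffineOpen_mem_and_subset (X := P) (x := x) (U := O ⊓ k ⁻¹ᵁ U) ⟨hx, hxU⟩
    have hVU : V ≤ k ⁻¹ᵁ U := fun z hz => (hVO hz).2
    let G : Γ(Y, ⊤) := Coh.toGlobal f a
    let b : Γ(Y, U) := Y.presheaf.map (homOfLE (le_top : U ≤ ⊤)).op G
    haveI : Nonempty U := ⟨⟨k x, hxU⟩⟩
    have hb : b ≠ 0 := by
      intro hb0
      have h1 : Y.basicOpen b = U ⊓ Y.basicOpen G := Scheme.basicOpen_res _ _ _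
      rw [hb0, Scheme.basicOpen_zero] at h1
      have hG : Y.basicOpen G = f ⁻¹ᵁ D := by
        show Y.basicOpen (f.appTop ((Scheme.ΓSpecIso (CommRingCat.of A)).inv a)) = _
        refine Eq.trans (Scheme.preimage_basicOpen f _).symm ?_
        rw [basicOpen_eq_of_affine]
      obtain ⟨e⟩ := (inferInstance : Nonempty (E : Scheme.{u}))
      have he : k e.1 ∈ f ⁻¹ᵁ D := by
        show (k ≫ f) e.1 ∈ D
        rw [h.w]; exact e.2
      have h2 : genericPoint Y ∈ U ⊓ Y.basicOpen G :=
        ⟨((genericPoint_spec Y).mem_open_set_iff U.2).2 (by simpa using ⟨k x, hxU⟩),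
          (genericPoint_specializes (k e.1)).mem_open (Y.basicOpen G).2 (hG ▸ he)⟩
      rw [← h1] at h2
      exact h2
    refine ⟨V, hV, hxV, fun z hz => (hVO hz).1, k.appLE U V hVU b, ?_, ?_⟩
    · have hfl : (k.appLE U V hVU).hom.Flat := HasRingHomProperty.appLE @Flat k inferInstance ⟨U, hU⟩ ⟨V, hV⟩ hVU
      letI := (k.appLE U V hVU).hom.toAlgebra
      haveI : Module.Flat Γ(Y, U) Γ(P, V) := hfl
      have hr := Module.Flat.isSMulRegular_of_nonZeroDivisors (M := Γ(P, V)) (mem_nonZeroDivisors_of_ne_zero hb)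
      refine mem_nonZeroDivisors_iff_right.2 fun t ht => hr ?_
      show b • t = b • 0
      rw [smul_zero, Algebra.smul_def, mul_comm]
      exact ht
    · rw [Scheme.basicOpen_appLE, Scheme.basicOpen_res, hE, show P.basicOpen (Coh.toGlobal (k ≫ f) a : Γ(P, ⊤)) =
        k ⁻¹ᵁ Y.basicOpen G from by
          rw [Scheme.preimage_basicOpen]
          simp only [G, Coh.toGlobal, Scheme.Hom.comp_appTop]
          rfl]
      ext z
      simp only [Opens.coe_inf, Set.mem_inter_iff, SetLike.mem_coe]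
      exact Iff.intro (fun h' => ⟨h'.1, h'.2.2⟩) (fun h' => ⟨h'.1, hVU h'.1, h'.2⟩)
  haveI : IsReduced P := by
    have hst : ∀ x : P, _root_.IsReduced (P.presheaf.stalk x) := fun x => by
      obtain ⟨V, hV, hxV, -, g, hg, hgE⟩ := key x ⊤ trivial
      haveI : IsLocalization.Away g Γ(P, P.basicOpen g) := hV.isLocalization_basicOpen g
      have hred : _root_.IsReduced Γ(P, V) := by
        haveI : _root_.IsReduced Γ(P, P.basicOpen g) := by
          have hle : P.basicOpen g ≤ E := hgE.le.trans inf_le_right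
          haveI := E.ι.isIso_app (P.basicOpen g) (by rw [Scheme.Opens.opensRange_ι]; exact hle)
          exact isReduced_of_injective (E.ι.app (P.basicOpen g)).hom (ConcreteCategory.bijective_of_isIso _).1
        refine isReduced_of_injective (algebraMap Γ(P, V) Γ(P, P.basicOpen g)) ?_
        exact IsLocalization.injective _ (Submonoid.powers_le.2 hg)
      letI := TopCat.Presheaf.algebra_section_stalk P.presheaf (⟨x, hxV⟩ : V)
      haveI := hV.isLocalization_stalk ⟨x, hxV⟩
      exact isReduced_localizationPreserves (hV.primeIdealOf ⟨x, hxV⟩).asIdeal.primeCompl _ hred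
    exact isReduced_of_isReduced_stalk P
  haveI : IrreducibleSpace P := by
    have hd : Dense (E : Set P) := dense_iff_inter_open.2 fun O hO ⟨x, hx⟩ => by
      obtain ⟨V, hV, hxV, hVO, g, hg, hgE⟩ := key x ⟨O, hO⟩ hx
      by_contra hne
      have hemp : P.basicOpen g = ⊥ := by
        rw [eq_bot_iff]
        intro z hz
        rw [hgE] at hz
        exact hne ⟨z, hVO hz.1, hz.2⟩
      have hg0 : g = 0 := (basicOpen_eq_bot_iff g).1 hemp
      subst hg0
      have h01 : (1 : Γ(P, V)) = 0 := (mem_nonZeroDivisors_iff_right.1 hg) 1 (mul_zero 1)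
      have h2 := congrArg (P.presheaf.germ V x hxV) h01
      rw [map_one, map_zero] at h2
      exact one_ne_zero h2
    have hirr : IsIrreducible (E : Set P) := by
      have := (IrreducibleSpace.isIrreducible_univ (E : Scheme.{u})).image E.ι E.ι.continuous.continuousOn
      rwa [Set.image_univ, Scheme.Opens.range_ι] at this
    exact (irreducibleSpace_def P).2 (by rw [Set.top_eq_univ, ← hd.closure_eq]; exact hirr.closure)
  exact isIntegral_of_irreducibleSpace_of_isReduced P

end Groth.Agent.RatLocal
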