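import Groth.Agent.GRingCpl.Complete
import Groth.Agent.Easy3.Excellent
import Groth.Agent.FlatDepth.RegHom
import Groth.Agent.FlatDepth.Formal
import Groth.Agent.GeomProp.NormalColim
import Groth.Prelude.Def_Curv2
import Mathlib

/-!
Completions of normal local rings of schemes of finite type over a complete local ring are normal domains.
-/

set_option autoImplicit false
set_option backward.isDefEq.respectTransparency false
set_option backward.isDefEq.respectTransparency.types false
set_option linter.style.haveILetI false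

universe u

open CategoryTheory AlgebraicGeometry IsLocalRing

noncomputable section

namespace Groth.Agent.RatLocal

theorem isNormal_of_isNormalRing_local {L : Type u} [CommRing L] [IsLocalRing L] (h : EGA4.IsNormalRing L) :
    IsDomain L ∧ IsIntegrallyClosed L := by
  obtain ⟨hd, hc⟩ := h (maximalIdeal L)
  haveI := hd
  haveI := hc
  haveI : IsLocalization (maximalIdeal L).primeCompl L :=
    IsLocalization.self fun a ha => IsLocalRing.notMem_maximalIdeal.1 ha
  let e : Localization.AtPrime (maximalIdeal L) ≃+* L :=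
    (IsLocalization.algEquiv (maximalIdeal L).primeCompl _ L).toRingEquiv
  exact ⟨e.symm.toMulEquiv.isDomain, IsIntegrallyClosed.of_equiv e⟩

theorem cpl_stalk_normal {C : Type u} [CommRing C] [IsLocalRing C] [IsNoetherianRing C]
    [IsAdicComplete (maximalIdeal C) C] {Y : Scheme.{u}} (g : Y ⟶ Spec (CommRingCat.of C)) [LocallyOfFiniteType g]
    (y : Y) [IsNoetherianRing (Y.presheaf.stalk y)] (hn : IsDomain (Y.presheaf.stalk y) ∧ IsIntegrallyClosed (Y.presheaf.stalk y)) :
    IsDomain (Curv2.cpl (Y.presheaf.stalk y)) ∧ IsIntegrallyClosed (Curv2.cpl (Y.presheaf.stalk y)) := by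
  obtain ⟨V, hV, hyV, -⟩ := exists_isAffineOpen_mem_and_subset (X := Y) (x := y) (U := ⊤) trivial
  letI : Algebra C Γ(Y, V) :=
    ((g.appLE ⊤ V le_top).hom.comp (Scheme.ΓSpecIso (CommRingCat.of C)).inv.hom).toAlgebra
  haveI : Algebra.FiniteType C Γ(Y, V) := by
    rw [← RingHom.finiteType_algebraMap, RingHom.algebraMap_toAlgebra]
    exact (g.finiteType_appLE (isAffineOpen_top _) hV (le_top : V ≤ g ⁻¹ᵁ ⊤)).comp
      (RingHom.FiniteType.of_surjective _
        (Scheme.ΓSpecIso (CommRingCat.of C)).symm.commRingCatIsoToRingEquiv.surjective)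
  letI := TopCat.Presheaf.algebra_section_stalk Y.presheaf (⟨y, hyV⟩ : V)
  haveI := hV.isLocalization_stalk ⟨y, hyV⟩
  let L : Type u := Y.presheaf.stalk y
  have hG : CAlg.IsGRing L :=
    Easy3.isGRing_of_isLocalization (hV.primeIdealOf ⟨y, hyV⟩).asIdeal.primeCompl L
      (GRingCpl.isGRing_of_finiteType_complete (R0 := C) Γ(Y, V))
  haveI : IsLocalization (maximalIdeal L).primeCompl L :=
    IsLocalization.self fun a ha => IsLocalRing.notMem_maximalIdeal.1 ha
  haveI : IsNoetherianRing (Localization.AtPrime (maximalIdeal L)) :=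
    IsLocalization.isNoetherianRing (maximalIdeal L).primeCompl _ inferInstance
  let e : Localization.AtPrime (maximalIdeal L) ≃+* L :=
    (IsLocalization.algEquiv (maximalIdeal L).primeCompl _ L).toRingEquiv
  have hreg := Easy3.isRegularHom_completion_of_ringEquiv e (hG.2 (maximalIdeal L))
  have hff : EGA4.HasGeomNormalFormalFibres L := (FlatDepth.isNormalHom_of_isRegularHom hreg).2
  haveI := hn.1
  haveI := hn.2
  exact isNormal_of_isNormalRing_local ((FlatDepth.isNormalRing_cpl_iff L hff).1 (GeomProp.isNormalRing_of_domain L))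

end Groth.Agent.RatLocal
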