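import Groth.Agent.FpqcDescent.IdealGlue
import Groth.Prelude.Def_Curv2
import Mathlib

/-!
Local rings over the closed point of the completed base agree to all orders (finitely generated maximal ideal).
-/

set_option autoImplicit false
set_option backward.isDefEq.respectTransparency false
set_option backward.isDefEq.respectTransparency.types false
set_option linter.style.haveILetI false
set_option maxHeartbeats 1000000

universe u

open CategoryTheory CategoryTheory.Limits AlgebraicGeometry TopologicalSpace IsLocalRing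

noncomputable section

namespace Groth.Agent.RatLocal.CplPoint

variable {A : Type u} [CommRing A] [IsLocalRing A] {X : Scheme.{u}} (f : X ⟶ Spec (CommRingCat.of A))

instance affine_fst : IsAffineHom (Curv2.bcCplFst A f) :=
  MorphismProperty.pullback_fst (P := @IsAffineHom) _ _ inferInstance

/-- Functions on the base change over an affine open come from the open, up to the maximal ideal of the base. -/
theorem exists_sub_mem (hfg : (maximalIdeal A).FG) (U : X.Opens) (hU : IsAffineOpen U)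
    (c : Γ(Curv2.bcCpl A f, (Curv2.bcCplFst A f) ⁻¹ᵁ U)) :
    ∃ b : Γ(X, U), c - (Curv2.bcCplFst A f).app U b ∈
      ((maximalIdeal A).map ((X.presheaf.map (homOfLE (le_top : U ≤ ⊤)).op).hom.comp (Coh.toGlobal f))).map
        ((Curv2.bcCplFst A f).app U).hom := by
  let q : Curv2.cpl A →+* A ⧸ maximalIdeal A := (AdicCompletion.evalOneₐ (maximalIdeal A)).toRingHom
  have hq : Function.Surjective q := AdicCompletion.evalOneₐ_surjective _
  have hker : RingHom.ker q = (maximalIdeal A).map (algebraMap A (Curv2.cpl A)) :=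
    AdicCompletion.ker_evalOneₐ_eq_map (maximalIdeal A) hfg
  let iq : Spec (CommRingCat.of (A ⧸ maximalIdeal A)) ⟶ Spec (CommRingCat.of (Curv2.cpl A)) :=
    Spec.map (CommRingCat.ofHom q)
  haveI : IsClosedImmersion iq := IsClosedImmersion.spec_of_surjective _ hq
  let i := pullback.fst (Curv2.bcCplSnd A f) iq
  have hcl : IsClosedImmersion (iq ≫ Spec.map (CommRingCat.ofHom (algebraMap A (Curv2.cpl A)))) := by
    rw [← Spec.map_comp, ← CommRingCat.ofHom_comp, AdicCompletion.evalOneₐ_comp_algebraMap_eq_mk]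
    exact IsClosedImmersion.spec_of_surjective _ Ideal.Quotient.mk_surjective
  haveI : IsClosedImmersion (i ≫ Curv2.bcCplFst A f) :=
    MorphismProperty.of_isPullback (P := @IsClosedImmersion)
      (((IsPullback.of_hasPullback (Curv2.bcCplSnd A f) iq).flip).paste_vert
        (IsPullback.of_hasPullback f (Spec.map (CommRingCat.ofHom (algebraMap A (Curv2.cpl A))))).flip) hcl
  have hV : IsAffineOpen ((Curv2.bcCplFst A f) ⁻¹ᵁ U) := hU.preimage _
  obtain ⟨b, hb⟩ := (i ≫ Curv2.bcCplFst A f).app_surjective U hU (i.app _ c)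
  refine ⟨b, ?_⟩
  have h1 : c - (Curv2.bcCplFst A f).app U b ∈ i.ker.ideal ⟨_, hV⟩ := by
    rw [Scheme.Hom.ker_apply, RingHom.mem_ker, map_sub, sub_eq_zero, ← hb]
    rfl
  rw [Scheme.IdealSheafData.ker_fst_of_isClosedImmersion,
    FpqcDescent.ideal_comap_appLE _ (Curv2.bcCplSnd A f) ⟨⊤, isAffineOpen_top _⟩ ⟨_, hV⟩ le_top] at h1
  refine (Ideal.map_le_iff_le_comap.mpr ?_) h1
  intro a ha
  rw [Scheme.Hom.ker_apply, RingHom.mem_ker] at ha
  obtain ⟨d, rfl⟩ := (Scheme.ΓSpecIso (CommRingCat.of (Curv2.cpl A))).commRingCatIsoToRingEquiv.symm.surjective a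
  have h2 : d ∈ RingHom.ker q := by
    have h := congrArg (Scheme.ΓSpecIso (CommRingCat.of (A ⧸ maximalIdeal A))).hom ha
    have hn := ConcreteCategory.congr_hom (Scheme.ΓSpecIso_naturality (CommRingCat.ofHom q))
      ((Scheme.ΓSpecIso (CommRingCat.of (Curv2.cpl A))).inv d)
    simp only [map_zero] at h
    rw [CommRingCat.comp_apply, CommRingCat.comp_apply, Iso.inv_hom_id_apply] at hn
    exact hn.symm.trans h
  rw [hker] at h2
  have hcomp : (((Curv2.bcCplSnd A f).appLE ⊤ ((Curv2.bcCplFst A f) ⁻¹ᵁ U) le_top).hom.comp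
      (Scheme.ΓSpecIso (CommRingCat.of (Curv2.cpl A))).inv.hom).comp (algebraMap A (Curv2.cpl A)) =
      ((Curv2.bcCplFst A f).app U).hom.comp
        ((X.presheaf.map (homOfLE (le_top : U ≤ ⊤)).op).hom.comp (Coh.toGlobal f)) := by
    have e : (Scheme.ΓSpecIso (CommRingCat.of A)).inv ≫ f.appTop ≫
        X.presheaf.map (homOfLE (le_top : U ≤ ⊤)).op ≫ (Curv2.bcCplFst A f).app U =
        CommRingCat.ofHom (algebraMap A (Curv2.cpl A)) ≫ (Scheme.ΓSpecIso (CommRingCat.of (Curv2.cpl A))).inv ≫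
          (Curv2.bcCplSnd A f).appLE ⊤ ((Curv2.bcCplFst A f) ⁻¹ᵁ U) le_top := by
      rw [reassoc_of% Scheme.ΓSpecIso_inv_naturality (CommRingCat.ofHom (algebraMap A (Curv2.cpl A)))]
      congr 1
      rw [Scheme.Hom.naturality, ← Scheme.Hom.comp_appTop_assoc, Scheme.Hom.appLE]
      simp only [pullback.condition]
      rw [Scheme.Hom.comp_appTop, Category.assoc]
      rfl
    exact (congrArg CommRingCat.Hom.hom e).symm
  rw [Ideal.map_map, ← hcomp, Ideal.mem_comap, ← Ideal.map_map, ← Ideal.map_map]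
  exact Ideal.mem_map_of_mem _ (Ideal.mem_map_of_mem _ h2)


/-- Over an affine open, a section upstairs is congruent to one from downstairs modulo the maximal ideal. -/
theorem exists_germ_sub_mem (hfg : (maximalIdeal A).FG) (U : X.Opens) (hU : IsAffineOpen U)
    (y : Curv2.bcCpl A f) (hyU : (Curv2.bcCplFst A f).base y ∈ U)
    (hy : f.base ((Curv2.bcCplFst A f).base y) = closedPoint A) (c : Γ(Curv2.bcCpl A f, (Curv2.bcCplFst A f) ⁻¹ᵁ U)) :
    ∃ b : Γ(X, U), (∀ y' (hy' : (Curv2.bcCplFst A f).base y' = (Curv2.bcCplFst A f).base y),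
      (Curv2.bcCpl A f).presheaf.germ _ y' (show (Curv2.bcCplFst A f).base y' ∈ U from hy' ▸ hyU) c -
        ((Curv2.bcCplFst A f).stalkMap y').hom (X.presheaf.germ U _ (hy' ▸ hyU) b) ∈
          (maximalIdeal (X.presheaf.stalk ((Curv2.bcCplFst A f).base y'))).map ((Curv2.bcCplFst A f).stalkMap y').hom) := by
  let φ := Curv2.bcCplFst A f
  obtain ⟨b, hb⟩ := exists_sub_mem f hfg U hU c
  refine ⟨b, fun y' hy' => ?_⟩
  have hxU : φ.base y' ∈ U := hy' ▸ hyU
  have hcl : f.base (φ.base y') = closedPoint A := hy' ▸ hy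
  let gA := (X.presheaf.map (homOfLE (le_top : U ≤ ⊤)).op).hom.comp (Coh.toGlobal f)
  let γ := (X.presheaf.germ U (φ.base y') hxU).hom
  have hgerm : ((Curv2.bcCpl A f).presheaf.germ (φ ⁻¹ᵁ U) y' hxU).hom.comp (φ.app U).hom =
      (φ.stalkMap y').hom.comp γ := by
    ext z
    exact (Scheme.Hom.germ_stalkMap_apply φ U y' hxU z).symm
  have hm : ((maximalIdeal A).map gA).map γ ≤ maximalIdeal (X.presheaf.stalk (φ.base y')) := by
    rw [Ideal.map_map, Ideal.map_le_iff_le_comap]
    intro a ha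
    rw [Ideal.mem_comap, mem_maximalIdeal, mem_nonunits_iff]
    intro hu
    have h1 : φ.base y' ∈ X.basicOpen (Coh.toGlobal f a : Γ(X, ⊤)) := by
      refine (X.mem_basicOpen (U := ⊤) (Coh.toGlobal f a : Γ(X, ⊤)) (φ.base y') trivial).mpr ?_
      have e := TopCat.Presheaf.germ_res_apply X.presheaf (homOfLE (le_top : U ≤ ⊤)) (φ.base y') hxU
        (Coh.toGlobal f a : Γ(X, ⊤))
      exact e ▸ hu
    have h2 : φ.base y' ∈ f ⁻¹ᵁ (Spec (CommRingCat.of A)).basicOpen ((Scheme.ΓSpecIso (CommRingCat.of A)).inv a) := by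
      rw [Scheme.preimage_basicOpen]
      exact h1
    rw [basicOpen_eq_of_affine] at h2
    exact (show a ∉ (f.base (φ.base y')).asIdeal from h2) (by rw [hcl]; exact ha)
  have hrel := Ideal.mem_map_of_mem ((Curv2.bcCpl A f).presheaf.germ (φ ⁻¹ᵁ U) y' hxU).hom hb
  rw [map_sub, Ideal.map_map, hgerm, ← Ideal.map_map] at hrel
  replace hrel := (Ideal.map_mono hm) hrel
  have e := Scheme.Hom.germ_stalkMap_apply φ U y' hxU b
  rw [e]
  exact hrel

/-- Over the closed point there is only one point above a point. -/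
theorem eq_of_fst_eq (hfg : (maximalIdeal A).FG) {y y' : Curv2.bcCpl A f}
    (hy : f.base ((Curv2.bcCplFst A f).base y) = closedPoint A)
    (he : (Curv2.bcCplFst A f).base y' = (Curv2.bcCplFst A f).base y) : y' = y := by
  set φ := Curv2.bcCplFst A f with hφ
  obtain ⟨U, hU, hxU, -⟩ := exists_isAffineOpen_mem_and_subset (X := X) (x := φ.base y) (U := ⊤) trivial
  have hV : IsAffineOpen (φ ⁻¹ᵁ U) := hU.preimage φ
  have key : ∀ c : Γ(Curv2.bcCpl A f, φ ⁻¹ᵁ U),
      (y ∈ (Curv2.bcCpl A f).basicOpen c ↔ y' ∈ (Curv2.bcCpl A f).basicOpen c) := by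
    intro c
    obtain ⟨b, hb⟩ := exists_germ_sub_mem f hfg U hU y hxU hy c
    have h : ∀ z (hz : φ.base z = φ.base y), z ∈ (Curv2.bcCpl A f).basicOpen c ↔ φ.base y ∈ X.basicOpen b := by
      intro z hz
      have hzU : φ.base z ∈ U := hz ▸ hxU
      have h1 := map_maximalIdeal_le (φ.stalkMap z).hom (hb z hz)
      rw [Scheme.mem_basicOpen _ c z hzU, ← hz, Scheme.mem_basicOpen _ b _ hzU,
        ← IsLocalRing.notMem_maximalIdeal, ← IsLocalRing.notMem_maximalIdeal, not_iff_not]
      have h2 : ∀ r, (φ.stalkMap z).hom r ∈ maximalIdeal _ ↔ r ∈ maximalIdeal (X.presheaf.stalk (φ.base z)) :=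
        fun r => by rw [mem_maximalIdeal, mem_maximalIdeal, mem_nonunits_iff, mem_nonunits_iff, isUnit_map_iff]
      rw [← h2]
      refine ⟨fun hc => ?_, fun hc => ?_⟩
      · have h3 := sub_mem hc h1
        rwa [sub_sub_cancel] at h3
      · have h3 := add_mem h1 hc
        rwa [sub_add_cancel] at h3
    rw [h y rfl, h y' he]
  have hins : ∀ {z z' : Curv2.bcCpl A f}, z ∈ φ ⁻¹ᵁ U → (∀ c : Γ(Curv2.bcCpl A f, φ ⁻¹ᵁ U),
      z ∈ (Curv2.bcCpl A f).basicOpen c → z' ∈ (Curv2.bcCpl A f).basicOpen c) → z' ⤳ z := by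
    intro z z' hz h
    refine specializes_iff_forall_open.2 fun O hO hzO => ?_
    obtain ⟨c, hcle, hzc⟩ := hV.exists_basicOpen_le (V := (⟨O, hO⟩ : (Curv2.bcCpl A f).Opens)) ⟨z, hzO⟩ hz
    exact hcle (h c hzc)
  have hy'U : y' ∈ φ ⁻¹ᵁ U := show φ.base y' ∈ U from he ▸ hxU
  exact ((hins hxU fun c => (key c).1).antisymm (hins hy'U fun c => (key c).2)).eq

theorem exists_sub_mem_pow (hfg : (maximalIdeal A).FG) (y : Curv2.bcCpl A f)
    (hy : f.base ((Curv2.bcCplFst A f).base y) = closedPoint A) (n : ℕ) (s : (Curv2.bcCpl A f).presheaf.stalk y) :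
    ∃ r, s - ((Curv2.bcCplFst A f).stalkMap y).hom r ∈
      (maximalIdeal (X.presheaf.stalk ((Curv2.bcCplFst A f).base y)) ^ n).map ((Curv2.bcCplFst A f).stalkMap y).hom := by
  set φ := Curv2.bcCplFst A f with hφ
  set ψ := (φ.stalkMap y).hom
  set m := maximalIdeal (X.presheaf.stalk (φ.base y))
  have h1 : ∀ s, ∃ r, s - ψ r ∈ m.map ψ := by
    intro s
    obtain ⟨U, hU, hxU, -⟩ := exists_isAffineOpen_mem_and_subset (X := X) (x := φ.base y) (U := ⊤) trivial
    have hV : IsAffineOpen (φ ⁻¹ᵁ U) := hU.preimage φ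
    letI := TopCat.Presheaf.algebra_section_stalk (Curv2.bcCpl A f).presheaf (⟨y, hxU⟩ : φ ⁻¹ᵁ U)
    haveI := hV.isLocalization_stalk ⟨y, hxU⟩
    obtain ⟨⟨c, t⟩, hct⟩ := IsLocalization.surj (hV.primeIdealOf ⟨y, hxU⟩).asIdeal.primeCompl s
    obtain ⟨b, hb⟩ := exists_germ_sub_mem f hfg U hU y hxU hy c
    obtain ⟨b', hb'⟩ := exists_germ_sub_mem f hfg U hU y hxU hy t.1
    have htu : IsUnit ((Curv2.bcCpl A f).presheaf.germ (φ ⁻¹ᵁ U) y hxU t.1) := IsLocalization.map_units _ t
    let β := X.presheaf.germ U (φ.base y) hxU b'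
    have hβ : IsUnit β := by
      by_contra hβ
      have h2 : ψ β ∈ maximalIdeal _ := map_maximalIdeal_le ψ (Ideal.mem_map_of_mem ψ hβ)
      have h3 := add_mem (map_maximalIdeal_le ψ (hb' y rfl)) h2
      rw [sub_add_cancel] at h3
      exact h3 htu
    refine ⟨X.presheaf.germ U (φ.base y) hxU b * ↑hβ.unit⁻¹, ?_⟩
    have hmul : ψ β * ψ ↑hβ.unit⁻¹ = 1 := by rw [← map_mul, hβ.mul_val_inv, map_one]
    have e : s - ψ (X.presheaf.germ U (φ.base y) hxU b * ↑hβ.unit⁻¹) =
        ψ ↑hβ.unit⁻¹ * (((Curv2.bcCpl A f).presheaf.germ (φ ⁻¹ᵁ U) y hxU c - ψ (X.presheaf.germ U (φ.base y) hxU b)) -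
          s * ((Curv2.bcCpl A f).presheaf.germ (φ ⁻¹ᵁ U) y hxU t.1 - ψ β)) := by
      have hct' : s * (Curv2.bcCpl A f).presheaf.germ (φ ⁻¹ᵁ U) y hxU t.1 =
          (Curv2.bcCpl A f).presheaf.germ (φ ⁻¹ᵁ U) y hxU c := hct
      rw [map_mul]
      linear_combination (-s) * hmul + ψ ↑hβ.unit⁻¹ * hct'
    rw [e]
    exact Ideal.mul_mem_left _ _ (sub_mem (hb y rfl) (Ideal.mul_mem_left _ _ (hb' y rfl)))
  induction n generalizing s with
  | zero => exact ⟨0, by simp [Ideal.map_top]⟩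
  | succ n ih =>
    obtain ⟨r, hr⟩ := ih s
    have h2 : ∀ z ∈ (m ^ n).map ψ, ∃ ρ, z - ψ ρ ∈ (m ^ (n + 1)).map ψ := by
      intro z hz
      induction hz using Submodule.span_induction with
      | mem z hz =>
        obtain ⟨a, ha, rfl⟩ := hz
        exact ⟨a, by simp⟩
      | zero => exact ⟨0, by simp⟩
      | add z w _ _ hz hw =>
        obtain ⟨ρ, hρ⟩ := hz
        obtain ⟨σ, hσ⟩ := hw
        exact ⟨ρ + σ, by rw [map_add, add_sub_add_comm]; exact add_mem hρ hσ⟩
      | smul t z hzm hz =>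
        obtain ⟨ρ, hρ⟩ := hz
        obtain ⟨τ, hτ⟩ := h1 t
        refine ⟨τ * ρ, ?_⟩
        rw [smul_eq_mul, map_mul, show t * z - ψ τ * ψ ρ = (t - ψ τ) * z + ψ τ * (z - ψ ρ) by ring]
        refine add_mem ?_ (Ideal.mul_mem_left _ _ hρ)
        rw [pow_succ', Ideal.map_mul]
        exact Ideal.mul_mem_mul hτ hzm
    obtain ⟨ρ, hρ⟩ := h2 _ hr
    exact ⟨r + ρ, by rw [map_add, ← sub_sub]; exact hρ⟩

theorem map_maximalIdeal_eq (hfg : (maximalIdeal A).FG) (y : Curv2.bcCpl A f)
    (hy : f.base ((Curv2.bcCplFst A f).base y) = closedPoint A) :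
    (maximalIdeal (X.presheaf.stalk ((Curv2.bcCplFst A f).base y))).map ((Curv2.bcCplFst A f).stalkMap y).hom =
      maximalIdeal ((Curv2.bcCpl A f).presheaf.stalk y) := by
  refine le_antisymm (map_maximalIdeal_le _) fun s hs => ?_
  obtain ⟨r, hr⟩ := exists_sub_mem_pow f hfg y hy 1 s
  rw [pow_one] at hr
  have h1 := sub_mem hs (map_maximalIdeal_le _ hr)
  rw [sub_sub_cancel] at h1
  have h2 : r ∈ maximalIdeal _ := fun hu => h1 (hu.map _)
  have h3 := add_mem hr (Ideal.mem_map_of_mem ((Curv2.bcCplFst A f).stalkMap y).hom h2)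
  rwa [sub_add_cancel] at h3

/-- A map to a local ring factoring through a point upstairs kills what becomes zero upstairs. -/
theorem eq_zero_of_retraction {T : CommRingCat.{u}} [IsLocalRing T] (l : Spec T ⟶ Curv2.bcCpl A f)
    {y : Curv2.bcCpl A f} (hq : l.base (closedPoint T) = y)
    (π : X.presheaf.stalk ((Curv2.bcCplFst A f).base y) ⟶ T) [IsLocalHom π.hom]
    (hl : l ≫ Curv2.bcCplFst A f = Spec.map π ≫ X.fromSpecStalk _)
    (I : Ideal (X.presheaf.stalk ((Curv2.bcCplFst A f).base y))) (hI : ∀ a ∈ I, π a = 0)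
    (r : X.presheaf.stalk ((Curv2.bcCplFst A f).base y))
    (hr : ((Curv2.bcCplFst A f).stalkMap y).hom r ∈ I.map ((Curv2.bcCplFst A f).stalkMap y).hom) : π r = 0 := by
  subst hq
  have hg : ∀ (g g' : Spec T ⟶ X), g = g' → ∀ (U : X.Opens) (h₁ : g (closedPoint T) ∈ U)
      (h₂ : g' (closedPoint T) ∈ U), X.presheaf.germ U _ h₁ ≫ Scheme.stalkClosedPointTo g =
        X.presheaf.germ U _ h₂ ≫ Scheme.stalkClosedPointTo g' := by
    rintro g g' rfl U h₁ h₂; rfl
  have hfac : ∀ a, Scheme.stalkClosedPointTo l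
      (((Curv2.bcCplFst A f).stalkMap (l.base (closedPoint T))).hom a) = π a := by
    intro a
    obtain ⟨U, hU, σ, rfl⟩ := X.presheaf.germ_exist a
    have h2 : (Spec.map π ≫ X.fromSpecStalk _) (closedPoint T) ∈ U := by
      rw [← hl]; exact hU
    have key := hg _ _ hl U hU h2
    rw [Scheme.germ_stalkClosedPointTo_Spec_fromSpecStalk π U h2, Scheme.stalkClosedPointTo_comp] at key
    exact ConcreteCategory.congr_hom key σ
  have h2 := Ideal.mem_map_of_mem (Scheme.stalkClosedPointTo l).hom hr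
  have h3 : (I.map ((Curv2.bcCplFst A f).stalkMap _).hom).map (Scheme.stalkClosedPointTo l).hom = ⊥ := by
    rw [Ideal.map_map, eq_bot_iff, Ideal.map_le_iff_le_comap]
    exact fun a ha => Ideal.mem_bot.2 ((hfac a).trans (hI a ha))
  rw [h3] at h2
  exact (hfac r).symm.trans (Ideal.mem_bot.1 h2)

/-- The local rings upstairs and downstairs agree modulo every power of the maximal ideals. -/
theorem bijective_quotientMap (hfg : (maximalIdeal A).FG) (y : Curv2.bcCpl A f)
    (hy : f.base ((Curv2.bcCplFst A f).base y) = closedPoint A) (n : ℕ)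
    (h : maximalIdeal (X.presheaf.stalk ((Curv2.bcCplFst A f).base y)) ^ n ≤
      (maximalIdeal ((Curv2.bcCpl A f).presheaf.stalk y) ^ n).comap ((Curv2.bcCplFst A f).stalkMap y).hom) :
    Function.Bijective (Ideal.quotientMap (maximalIdeal ((Curv2.bcCpl A f).presheaf.stalk y) ^ n)
      ((Curv2.bcCplFst A f).stalkMap y).hom h) := by
  have hpow : (maximalIdeal (X.presheaf.stalk ((Curv2.bcCplFst A f).base y)) ^ n).map
      ((Curv2.bcCplFst A f).stalkMap y).hom = maximalIdeal ((Curv2.bcCpl A f).presheaf.stalk y) ^ n := by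
    rw [Ideal.map_pow, map_maximalIdeal_eq f hfg y hy]
  refine ⟨?_, fun z => ?_⟩
  · rw [injective_iff_map_eq_zero]
    intro z hz
    obtain ⟨r, rfl⟩ := Ideal.Quotient.mk_surjective z
    rw [Ideal.quotientMap_mk, Ideal.Quotient.eq_zero_iff_mem, ← hpow] at hz
    rw [Ideal.Quotient.eq_zero_iff_mem]
    rcases Nat.eq_zero_or_pos n with rfl | hn
    · simp
    let x := (Curv2.bcCplFst A f).base y
    let R : CommRingCat.{u} := X.presheaf.stalk x
    let Rn : CommRingCat.{u} := CommRingCat.of (R ⧸ maximalIdeal (X.presheaf.stalk x) ^ n)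
    let π : R ⟶ Rn := CommRingCat.ofHom (Ideal.Quotient.mk (maximalIdeal (X.presheaf.stalk x) ^ n))
    haveI : Nontrivial Rn := Ideal.Quotient.nontrivial_iff.2 fun ht =>
      (maximalIdeal.isMaximal _).ne_top (top_le_iff.1 (ht ▸ Ideal.pow_le_self hn.ne'))
    haveI : IsLocalRing Rn := IsLocalRing.of_surjective' π.hom Ideal.Quotient.mk_surjective
    haveI : IsLocalHom π.hom := IsLocalHom.of_surjective _ Ideal.Quotient.mk_surjective
    let i : Spec Rn ⟶ X := Spec.map π ≫ X.fromSpecStalk x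
    let ga : A →+* Rn := π.hom.comp ((X.presheaf.germ ⊤ x trivial).hom.comp (Coh.toGlobal f))
    have hga : ∀ a ∈ maximalIdeal A ^ n, ga a = 0 := by
      intro a ha
      refine Ideal.Quotient.eq_zero_iff_mem.2 ?_
      have hle : (maximalIdeal A).map ((X.presheaf.germ ⊤ x trivial).hom.comp (Coh.toGlobal f)) ≤
          maximalIdeal (X.presheaf.stalk x) := by
        rw [Ideal.map_le_iff_le_comap]
        intro b hb
        rw [Ideal.mem_comap, mem_maximalIdeal, mem_nonunits_iff]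
        intro hu
        have h1 : x ∈ X.basicOpen (Coh.toGlobal f b : Γ(X, ⊤)) := (X.mem_basicOpen (U := ⊤) (Coh.toGlobal f b : Γ(X, ⊤)) x trivial).2 hu
        have h2 : x ∈ f ⁻¹ᵁ (Spec (CommRingCat.of A)).basicOpen ((Scheme.ΓSpecIso (CommRingCat.of A)).inv b) := by
          rw [Scheme.preimage_basicOpen]
          exact h1
        rw [basicOpen_eq_of_affine] at h2
        exact (show b ∉ (f.base x).asIdeal from h2) (by rw [hy]; exact hb)
      have h3 := Ideal.pow_right_mono hle n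
      rw [← Ideal.map_pow] at h3
      exact h3 (Ideal.mem_map_of_mem _ ha)
    let θ : Curv2.cpl A →+* Rn :=
      (Ideal.Quotient.lift (maximalIdeal A ^ n) ga hga).comp (AdicCompletion.evalₐ (maximalIdeal A) n).toRingHom
    have hθ : θ.comp (algebraMap A (Curv2.cpl A)) = ga := by
      ext a
      simp [θ, AdicCompletion.algebraMap_apply]
    have hi : i ≫ f = Spec.map (CommRingCat.ofHom θ) ≫ Spec.map (CommRingCat.ofHom (algebraMap A (Curv2.cpl A))) := by
      rw [← Spec.map_comp, ← CommRingCat.ofHom_comp, hθ]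
      simp only [i, Category.assoc]
      have hf : f = X.toSpecΓ ≫ Spec.map f.appTop ≫ Spec.map (Scheme.ΓSpecIso (CommRingCat.of A)).inv := by
        rw [← Scheme.toSpecΓ_naturality_assoc, ← SpecMap_ΓSpecIso_hom, ← Spec.map_comp, Iso.inv_hom_id, Spec.map_id, Category.comp_id]
      conv_lhs => rw [hf]
      rw [Scheme.fromSpecStalk_toSpecΓ_assoc, ← Spec.map_comp, ← Spec.map_comp, ← Spec.map_comp]
      rfl
    let l : Spec Rn ⟶ Curv2.bcCpl A f := pullback.lift i (Spec.map (CommRingCat.ofHom θ)) hi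
    have hl : l ≫ Curv2.bcCplFst A f = i := pullback.lift_fst _ _ _
    have hpt : (Curv2.bcCplFst A f).base (l.base (closedPoint Rn)) = x := by
      rw [← Scheme.Hom.comp_apply, hl]
      show (X.fromSpecStalk x).base ((Spec.map π).base (closedPoint Rn)) = x
      rw [show (Spec.map π).base (closedPoint Rn) = closedPoint R from IsLocalRing.comap_closedPoint π.hom]
      exact Scheme.fromSpecStalk_closedPoint
    have hq : l.base (closedPoint Rn) = y := eq_of_fst_eq f hfg hy hpt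
    exact Ideal.Quotient.eq_zero_iff_mem.1 (eq_zero_of_retraction f l hq π hl (maximalIdeal R ^ n)
      (fun a ha => Ideal.Quotient.eq_zero_iff_mem.2 ha) r hz)
  · obtain ⟨s, rfl⟩ := Ideal.Quotient.mk_surjective z
    obtain ⟨r, hr⟩ := exists_sub_mem_pow f hfg y hy n s
    refine ⟨Ideal.Quotient.mk _ r, ?_⟩
    rw [Ideal.quotientMap_mk, eq_comm, Ideal.Quotient.eq, ← hpow]
    exact hr

end Groth.Agent.RatLocal.CplPoint
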