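import Groth.Agent.S7338
import Groth.Agent.CohQC.Restrict
import Groth.Agent.CohFinite.RPushVanish
import Groth.Agent.ModLeray1.Basic
import Mathlib

/-!
On a modification of a rational singularity, `H¹` upstairs vanishes over every affine open downstairs.
-/

set_option autoImplicit false
set_option backward.isDefEq.respectTransparency false
set_option backward.isDefEq.respectTransparency.types false
set_option linter.style.haveILetI false
set_option maxHeartbeats 800000

universe u

open CategoryTheory CategoryTheory.Limits AlgebraicGeometry TopologicalSpace Opposite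

noncomputable section

namespace Groth.Agent.RatLocal

/-- A globally generated module without global sections is zero. -/
theorem isZero_of_subsingleton_top {X : Scheme.{u}} {G : X.Modules} (hG : Curv2.IsGloballyGenerated G)
    (h : Subsingleton Γ(G, ⊤)) : IsZero G := by
  obtain ⟨I, p, hp⟩ := hG
  have hp0 : p = 0 := by
    refine Sigma.hom_ext _ _ fun i => ?_
    apply (SheafOfModules.unitHomEquiv G).injective
    refine Subtype.ext (funext fun W => ?_)
    have key : ∀ s : SheafOfModules.sections G, s.val W = 0 := fun s => by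
      rw [← s.property (homOfLE (le_top : W.unop ≤ (⊤ : X.Opens))).op,
        @Subsingleton.elim _ h (s.val (op ⊤)) 0]
      exact (G.presheaf.map (homOfLE (le_top : W.unop ≤ (⊤ : X.Opens))).op).hom.map_zero
    rw [key, key]
  haveI := hp
  rw [IsZero.iff_id_eq_zero, ← cancel_epi p, hp0, zero_comp, zero_comp]

variable {A : Type u} [CommRing A] [IsDomain A] [IsLocalRing A] [IsNoetherianRing A] [IsIntegrallyClosed A]

theorem subsingleton_hu_preimage (hdim : ringKrullDim A = 2) (hA : Curv2.IsRationalSing A)
    {X X' : Scheme.{u}} (f : X ⟶ Spec (CommRingCat.of A)) [IsProper f] [IsIntegral X] [IsIntegral X']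
    (hX : ∃ U : (Spec (CommRingCat.of A)).Opens, (U : Set (Spec (CommRingCat.of A))).Nonempty ∧ IsIso (f ∣_ U))
    (g : X' ⟶ X) [IsProper (g ≫ f)]
    (hX' : ∃ U : (Spec (CommRingCat.of A)).Opens, (U : Set (Spec (CommRingCat.of A))).Nonempty ∧ IsIso ((g ≫ f) ∣_ U))
    (hXn : Pi1.IsNormalScheme X) (hX'n : Pi1.IsNormalScheme X') {V : X.Opens} (hV : IsAffineOpen V) :
    Subsingleton (CohSite.HU (Coh.toAb (Coh.structureModule X')) 1 (g ⁻¹ᵁ V)) := by
  letI : X.Over (Spec (CommRingCat.of A)) := ⟨f⟩
  letI : X'.Over (Spec (CommRingCat.of A)) := ⟨g ≫ f⟩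
  haveI : IsProper (X ↘ Spec (CommRingCat.of A)) := ‹IsProper f›
  haveI : IsProper (X' ↘ Spec (CommRingCat.of A)) := ‹IsProper (g ≫ f)›
  haveI : HasInjectiveResolutions X'.Modules := inferInstance
  haveI : IsProper g := IsProper.of_comp g f
  obtain ⟨hgg, -, -, hlen⟩ := S7338.result A hdim X X' hX hX' hXn g rfl
  haveI h1 : Subsingleton (Coh.HH X' (Coh.structureModule X') 1) := hA X' (g ≫ f) inferInstance inferInstance hX'n hX'
  rw [Module.length_eq_zero (R := A) (M := Coh.HH X' (Coh.structureModule X') 1)] at hlen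
  have h0 : Subsingleton (Coh.HH X ((Coh.Rpush g 1).obj (Coh.structureModule X')) 0) := by
    rw [← Module.length_eq_zero_iff (R := A)]
    exact (add_eq_zero.1 hlen.symm).2
  have hz : IsZero ((Coh.Rpush g 1).obj (Coh.structureModule X')) :=
    isZero_of_subsingleton_top hgg ((ModLeray1.z0 _).symm.toEquiv.subsingleton_congr.2 h0)
  obtain ⟨a⟩ := CohFinite.hu_equiv_sections g (Coh.structureModule X') (StMod.isQCoh_structureModule X') hV 1
  obtain ⟨e⟩ := CohQC.toAb_rpush_iso g (Coh.structureModule X') 1
  let e' := (((sheafToPresheaf _ _).mapIso e).app (op V)).addCommGroupIsoToAddEquiv.trans a.symm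
  haveI : Subsingleton Γ((Coh.Rpush g 1).obj (Coh.structureModule X'), V) := subsingleton_of_forall_eq 0 fun s => by
    have h := congrArg (fun φ => φ.app V s) (hz.eq_of_src (𝟙 _) 0)
    simpa using h
  exact @Equiv.subsingleton _ _ e'.toEquiv.symm ‹Subsingleton Γ((Coh.Rpush g 1).obj (Coh.structureModule X'), V)›

end Groth.Agent.RatLocal
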