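import Groth.Agent.RatLocal.Normalise
import Groth.Agent.RatLocal.Vanish
import Groth.Agent.S1274
import Groth.Agent.BlowUpExist.Global
import Groth.Agent.BlowUpExist.Proper
import Groth.Agent.BlowUpLib.Basic
import Groth.Agent.W7FlatBC.Sections
import Groth.Agent.PtBlow.Rational
import Groth.Agent.W7Fib.Birat
import Groth.Agent.FreeLite.Basic
import Groth.Agent.LefDiv.Restrict
import Groth.Agent.SpDimTrdeg.Basic
import Groth.Agent.BiratCodimTwo.Basic
import Groth.Agent.RegDual.Scheme
import Groth.Agent.GrpField.FlatPoint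
import Groth.Agent.DimAffMap.Basic
import Mathlib

/-!
The local rings of a normal modification of a rational surface singularity are rational.
-/

set_option autoImplicit false
set_option backward.isDefEq.respectTransparency false
set_option backward.isDefEq.respectTransparency.types false
set_option linter.style.haveILetI false
set_option maxHeartbeats 1600000

universe u

open CategoryTheory CategoryTheory.Limits AlgebraicGeometry TopologicalSpace Opposite
open scoped TensorProduct

noncomputable section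

namespace Groth.Agent.RatLocal

/-- The base change of an integral scheme along a localisation is integral when it is nonempty over the generic point. -/
theorem isIntegral_of_flat_preimmersion {W X : Scheme.{u}} (k : W ⟶ X) [IsIntegral X] [IsPreimmersion k] [Flat k]
    (hη : genericPoint X ∈ Set.range k) : IsIntegral W := by
  haveI : IsReduced W := by
    haveI : ∀ w : W, _root_.IsReduced (W.presheaf.stalk w) := fun w => by
      let φ := k.stalkMap w
      letI := φ.hom.toAlgebra
      haveI : IsLocalHom (algebraMap (X.presheaf.stalk (k w)) (W.presheaf.stalk w)) :=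
        inferInstanceAs (IsLocalHom φ.hom)
      haveI : Module.Flat (X.presheaf.stalk (k w)) (W.presheaf.stalk w) := Flat.stalkMap k w
      haveI := Module.FaithfullyFlat.of_flat_of_isLocalHom (A := X.presheaf.stalk (k w)) (B := W.presheaf.stalk w)
      let e := RingEquiv.ofBijective φ.hom ⟨FaithfulSMul.algebraMap_injective _ _, k.stalkMap_surjective w⟩
      exact isReduced_of_injective e.symm.toRingHom e.symm.injective
    exact isReduced_of_isReduced_stalk W
  haveI : IrreducibleSpace W := by
    obtain ⟨w₀, hw₀⟩ := hη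
    have hd : closure ({w₀} : Set W) = Set.univ := by
      refine Set.eq_univ_of_forall fun w => ?_
      rw [k.isEmbedding.closure_eq_preimage_closure_image, Set.mem_preimage, Set.image_singleton, hw₀,
        (genericPoint_spec X).def]
      trivial
    refine (irreducibleSpace_def W).2 ?_
    rw [Set.top_eq_univ, ← hd]
    exact isIrreducible_singleton.closure
  exact isIntegral_of_irreducibleSpace_of_isReduced W

/-- A closed subscheme of the local scheme at a closed point, pushed to a closed subscheme of the scheme. -/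
theorem exists_ideal_extension {X : Scheme.{u}} {x : X} (hx : IsClosed ({x} : Set X))
    (I : (Spec (X.presheaf.stalk x)).IdealSheafData)
    (hI : (I.support : Set (Spec (X.presheaf.stalk x))) ⊆ {IsLocalRing.closedPoint (X.presheaf.stalk x)}) :
    ∃ 𝒥 : X.IdealSheafData, (𝒥.support : Set X) ⊆ {x} ∧ 𝒥.comap (X.fromSpecStalk x) = I := by
  let j := X.fromSpecStalk x
  let c := I.subschemeι ≫ j
  have hsub : Set.range c ⊆ {x} := by
    rintro _ ⟨z, rfl⟩
    have hz : I.subschemeι z ∈ (I.support : Set (Spec (X.presheaf.stalk x))) := by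
      rw [← I.range_subschemeι]; exact ⟨z, rfl⟩
    show j (I.subschemeι z) ∈ ({x} : Set X)
    rw [hI hz]
    exact X.fromSpecStalk_closedPoint
  have hcl : IsClosed (Set.range c) := by
    rcases Set.subset_singleton_iff_eq.1 hsub with e | e <;> rw [e]
    · exact isClosed_empty
    · exact hx
  haveI : IsPreimmersion c := inferInstanceAs (IsPreimmersion (I.subschemeι ≫ j))
  haveI : IsClosedImmersion c := IsClosedImmersion.of_isPreimmersion c hcl
  refine ⟨c.ker, ?_, ?_⟩
  · rw [Scheme.Hom.support_ker]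
    exact closure_minimal hsub hx
  · have hp : IsPullback (𝟙 _) I.subschemeι c j := IsPullback.of_horiz_isIso_mono ⟨by simp [c, j]⟩
    have h2 := Scheme.IdealSheafData.ker_fst_of_isClosedImmersion c j
    rw [← h2]
    have he : pullback.fst j c = hp.flip.isoPullback.inv ≫ I.subschemeι := (hp.flip.isoPullback_inv_fst).symm
    rw [he, Scheme.Hom.ker_comp_of_isIso, Scheme.IdealSheafData.ker_subschemeι]

/-- A morphism iso over a nonempty open sends the generic point to the generic point. -/
theorem map_genericPoint_of_isIso_restrict {W X : Scheme.{u}} [IsIntegral W] [IsIntegral X] (g : W ⟶ X) (V : X.Opens)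
    (hV : (V : Set X).Nonempty) [IsIso (g ∣_ V)] : g (genericPoint W) = genericPoint X := by
  have hη : genericPoint X ∈ V := ((genericPoint_spec X).mem_open_set_iff V.2).2 (by simpa using hV)
  obtain ⟨z, hz⟩ := (g ∣_ V).surjective ⟨_, hη⟩
  have hz' : g z.1 = genericPoint X := (morphismRestrict_base_coe g V z).symm.trans (congrArg Subtype.val hz)
  exact (((genericPoint_specializes z.1).map g.continuous).trans (by rw [hz'])).antisymm (genericPoint_specializes _)
    |>.eq

/-- Composites of birational morphisms are birational. -/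
theorem exists_isIso_comp {X' X Y : Scheme.{u}} [IsIntegral X] (b : X' ⟶ X) (f : X ⟶ Y) (Vb : X.Opens) (U : Y.Opens)
    [IsIso (b ∣_ Vb)] [IsIso (f ∣_ U)] (hVb : (Vb : Set X).Nonempty) (hU : (U : Set Y).Nonempty) :
    ∃ U₁ : Y.Opens, (U₁ : Set Y).Nonempty ∧ IsIso ((b ≫ f) ∣_ U₁) := by
  let V₁ : X.Opens := Vb ⊓ f ⁻¹ᵁ U
  haveI : IsOpenImmersion (V₁.ι ≫ f) := by
    rw [← Scheme.homOfLE_ι X (inf_le_right : V₁ ≤ f ⁻¹ᵁ U), Category.assoc, ← morphismRestrict_ι]
    infer_instance
  let U₁ := (V₁.ι ≫ f).opensRange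
  have hU₁ : U₁ ≤ U := by
    rintro _ ⟨z, rfl⟩
    exact z.2.2
  have hpre : f ⁻¹ᵁ U₁ ≤ V₁ := by
    rintro z ⟨v, hv⟩
    have hz : f z ∈ U := hU₁ ⟨v, hv⟩
    have e : (⟨z, hz⟩ : (f ⁻¹ᵁ U : X.Opens).toScheme) = ⟨v.1, v.2.2⟩ := by
      apply (f ∣_ U).injective
      exact Subtype.ext (((morphismRestrict_base_coe f U _).trans hv.symm).trans
        (morphismRestrict_base_coe f U _).symm)
    show z ∈ V₁
    rw [show z = v.1 from congrArg Subtype.val e]
    exact v.2
  haveI : IsIso (f ∣_ U₁) := ModLeray1.isIso_restrict_of_le_isoLocus f (hU₁.trans (PtBlow.le_isoLocus inferInstance))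
  haveI : IsIso (b ∣_ f ⁻¹ᵁ U₁) :=
    ModLeray1.isIso_restrict_of_le_isoLocus b ((hpre.trans inf_le_left).trans (PtBlow.le_isoLocus inferInstance))
  refine ⟨U₁, ?_, by rw [morphismRestrict_comp]; infer_instance⟩
  obtain ⟨v, hv⟩ := nonempty_preirreducible_inter Vb.2 (f ⁻¹ᵁ U).2 hVb (PtBlow.nonempty_preimage hU inferInstance)
  exact ⟨_, ⟨v, hv⟩, rfl⟩

/-- Isomorphisms over an open are stable under base change. -/
theorem isIso_fst_restrict {S X Z : Scheme.{u}} (j : S ⟶ X) (g : Z ⟶ X) (V : X.Opens) [IsIso (g ∣_ V)] :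
    IsIso (pullback.fst j g ∣_ j ⁻¹ᵁ V) := by
  have hA := (isPullback_morphismRestrict (pullback.fst j g) (j ⁻¹ᵁ V)).flip
  have hB := hA.paste_horiz (IsPullback.of_hasPullback j g).flip
  rw [← morphismRestrict_ι j V] at hB
  have hD := IsPullback.of_right' hB (isPullback_morphismRestrict g V).flip
  exact MorphismProperty.of_isPullback (P := MorphismProperty.isomorphisms Scheme.{u}) hD ‹IsIso (g ∣_ V)›

variable {A : Type u} [CommRing A] [IsDomain A] [IsLocalRing A] [IsNoetherianRing A] [IsIntegrallyClosed A]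

/-- The local rings of a modification have dimension at most two. -/
theorem dim_stalk_le_two (hdim : ringKrullDim A = 2) {X : Scheme.{u}} [IsIntegral X]
    (f : X ⟶ Spec (CommRingCat.of A)) [IsProper f] (U : (Spec (CommRingCat.of A)).Opens)
    (hU : (U : Set (Spec (CommRingCat.of A))).Nonempty) [IsIso (f ∣_ U)] (x : X) :
    ringKrullDim (X.presheaf.stalk x) ≤ 2 := by
  haveI : IsLocallyNoetherian X := LocallyOfFiniteType.isLocallyNoetherian f
  have hdA : topologicalKrullDim ↥(Spec (CommRingCat.of A)) ≤ 2 := by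
    rw [← hdim]
    exact le_of_eq (PrimeSpectrum.topologicalKrullDim_eq_ringKrullDim A)
  have hV : ((f ⁻¹ᵁ U : X.Opens) : Set X).Nonempty := PtBlow.nonempty_preimage hU inferInstance
  obtain ⟨a, ha⟩ : ∃ a, ringKrullDim (X.presheaf.stalk x) = a := ⟨_, rfl⟩
  obtain ⟨b, hb⟩ : ∃ b, ringKrullDim ((Spec (CommRingCat.of A)).presheaf.stalk (f x)) = b := ⟨_, rfl⟩
  obtain ⟨r, hr⟩ := SpDimTrdeg.exists_resTrdeg_eq_nat f x
  have h2 := SpDimTrdeg.dim_stalk_le f x ha hb hr (E := 0) fun ξ hξm _ => by
    rw [show ξ = genericPoint X from (hξm _ (genericPoint_specializes ξ)).symm]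
    exact (BiratCodimTwo.resTrdeg_genericPoint _ U
      (((genericPoint_spec X).mem_open_set_iff (f ⁻¹ᵁ U).2).2 (by simpa using hV))).le
  rw [map_zero] at h2
  rw [ha]
  calc a ≤ a + ((Cardinal.toENat (r : Cardinal.{u}) : ℕ∞) : WithBot ℕ∞) :=
        le_add_of_nonneg_right (WithBot.coe_le_coe.2 bot_le)
    _ ≤ b + ((0 : ℕ∞) : WithBot ℕ∞) := h2
    _ ≤ 2 := by
        rw [← hb]
        exact (le_of_eq (by simp)).trans ((RegDual.ringKrullDim_stalk_le_topologicalKrullDim (f x)).trans hdA)

/-- A point with local ring of dimension two is closed and is not the generic point. -/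
theorem isClosed_singleton_of_dim (hdim : ringKrullDim A = 2) {X : Scheme.{u}} [IsIntegral X]
    (f : X ⟶ Spec (CommRingCat.of A)) [IsProper f] (U : (Spec (CommRingCat.of A)).Opens)
    (hU : (U : Set (Spec (CommRingCat.of A))).Nonempty) [IsIso (f ∣_ U)] (x : X)
    (hx : ringKrullDim (X.presheaf.stalk x) = 2) : IsClosed ({x} : Set X) ∧ genericPoint X ≠ x := by
  haveI : IsLocallyNoetherian X := LocallyOfFiniteType.isLocallyNoetherian f
  refine ⟨?_, fun h => ?_⟩
  · rw [← closure_subset_iff_isClosed]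
    intro y hy
    by_contra hne
    letI := specializationOrder X
    have hlt : y < x := by
      refine ⟨specializes_iff_mem_closure.2 hy, fun h => hne ?_⟩
      exact ((specializes_iff_mem_closure.2 hy).antisymm h).eq.symm
    obtain ⟨n, hn⟩ : ∃ n, Order.coheight x = n := ⟨_, rfl⟩
    have h1 := Order.coheight_add_one_le hlt
    have h2 := dim_stalk_le_two hdim f U hU y
    rw [ringKrullDim_stalk_eq_coheight] at h2 hx
    have h2' : Order.coheight y ≤ 2 := WithBot.coe_le_coe.1 h2
    have hx' : Order.coheight x = 2 := WithBot.coe_injective hx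
    rw [hx'] at h1
    exact absurd (h1.trans h2') (by decide)
  · have h1 : ringKrullDim (X.presheaf.stalk (genericPoint X)) = 0 := ringKrullDim_eq_zero_of_field X.functionField
    subst h
    rw [hx] at h1
    exact absurd h1 (by decide)

theorem isRationalSing_stalk (hN : CAlg.IsNagata A) (hdim : ringKrullDim A = 2) (hA : Curv2.IsRationalSing A)
    {X : Scheme.{u}} (f : X ⟶ Spec (CommRingCat.of A)) [IsProper f] [IsIntegral X]
    (hX : ∃ U : (Spec (CommRingCat.of A)).Opens, (U : Set (Spec (CommRingCat.of A))).Nonempty ∧ IsIso (f ∣_ U))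
    (hXn : Pi1.IsNormalScheme X) (x : X) (hdx : ringKrullDim (X.presheaf.stalk x) = 2) :
    Curv2.IsRationalSing (X.presheaf.stalk x) := by
  classical
  intro W w hw hWi hWn hWb
  haveI := hw
  haveI := hWi
  obtain ⟨U, hU, hUiso⟩ := hX
  haveI := hUiso
  obtain ⟨hxc, hxη⟩ := isClosed_singleton_of_dim hdim f U hU x hdx
  haveI : IsLocallyNoetherian X := LocallyOfFiniteType.isLocallyNoetherian f
  haveI : CompactSpace X := QuasiCompact.compactSpace_of_compactSpace f
  haveI : AlgebraicGeometry.IsNoetherian X := {}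
  haveI hNx : IsNoetherianRing (X.presheaf.stalk x) := inferInstance
  haveI hDx : IsDomain (X.presheaf.stalk x) := (hXn x).1
  haveI hCx : IsIntegrallyClosed (X.presheaf.stalk x) := (hXn x).2
  let S := Spec (X.presheaf.stalk x)
  let R := X.presheaf.stalk x
  let j : S ⟶ X := X.fromSpecStalk x
  have hSn : Pi1.IsNormalScheme S := fun s => RatBlow.isNormal_spec (A := R) s
  haveI : AlgebraicGeometry.IsNoetherian S := inferInstanceAs (AlgebraicGeometry.IsNoetherian (Spec (CommRingCat.of R)))
  haveI : IsIntegral S := inferInstanceAs (IsIntegral (Spec (CommRingCat.of R)))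
  -- the modification is an isomorphism off the closed point
  obtain ⟨U₀, hU₀, hU₀i⟩ := hWb
  have hdS : topologicalKrullDim S ≤ 2 :=
    le_of_eq ((PrimeSpectrum.topologicalKrullDim_eq_ringKrullDim R).trans hdx)
  obtain ⟨-, hcl⟩ := PtBlow.compl_isoLocus w hSn hdS ⟨U₀, hU₀, hU₀i⟩
  let P : S.Opens := FEt.puncturedSpec R
  have hPle : P ≤ PtBlow.isoLocus w := fun s hs => by
    by_contra h
    refine hs ?_
    obtain ⟨hsc, -⟩ := hcl s h
    exact ((IsLocalRing.specializes_closedPoint (R := R) s).mem_closed hsc (Set.mem_singleton s)).symm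
  haveI : IsIso (w ∣_ P) := ModLeray1.isIso_restrict_of_le_isoLocus w hPle
  haveI : QuasiSeparatedSpace S := inferInstance
  obtain ⟨I, S', bS, hbS, hadm, h, hh⟩ := S1274.result w P (NoetherianSpace.isCompact _)
  have hIsupp : (I.support : Set S) ⊆ {IsLocalRing.closedPoint R} := fun s hs => by
    by_contra hne
    exact Set.disjoint_left.1 hadm.2 hs hne
  obtain ⟨𝒥, h𝒥, h𝒥I⟩ := exists_ideal_extension hxc I hIsupp
  have h𝒥ne : 𝒥 ≠ ⊥ := fun e => hxη (h𝒥 (by rw [e, Scheme.IdealSheafData.support_bot]; trivial))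
  obtain ⟨X', bX, hbX⟩ := BlowUpExist.exists_isBlowUp X 𝒥
  haveI : IsProper bX := BlowUpExist.isProper_of_isBlowUp hbX fun y => by
    obtain ⟨V, hV, hyV, -⟩ := exists_isAffineOpen_mem_and_subset (X := X) (U := ⊤) (trivial : y ∈ (⊤ : X.Opens))
    haveI := IsLocallyNoetherian.component_noetherian (X := X) ⟨V, hV⟩
    exact ⟨⟨V, hV⟩, hyV, IsNoetherian.noetherian _⟩
  haveI : IsIntegral X' := W7Fib.isIntegral_blowUp h𝒥ne hbX
  haveI := BlowUpLib.isIso_restrict hbX
  -- an open of the base over which the blow-up is an isomorphism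
  obtain ⟨U₁, hU₁, hU₁i⟩ := exists_isIso_comp bX f 𝒥.support.compl U
    ⟨_, fun hmem => hxη (h𝒥 hmem)⟩ hU
  obtain ⟨X'', ν, hν, hX''i, hX''n, hX''b, -⟩ := exists_normal_over hN (bX ≫ f) ⟨U₁, hU₁, hU₁i⟩
  haveI := hν
  haveI := hX''i
  let g : X'' ⟶ X := ν ≫ bX
  haveI : IsProper (g ≫ f) := by rw [Category.assoc]; exact hν
  haveI : IsProper g := IsProper.of_comp g f
  have hgb : ∃ U : (Spec (CommRingCat.of A)).Opens, (U : Set (Spec (CommRingCat.of A))).Nonempty ∧ IsIso ((g ≫ f) ∣_ U) := by
    rw [Category.assoc]; exact hX''b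
  -- the base change to the local scheme
  haveI : Flat j := GrpField.flat_fromSpecStalk x
  let W' := pullback j g
  let w' : W' ⟶ S := pullback.fst j g
  let k : W' ⟶ X'' := pullback.snd j g
  haveI : IsPreimmersion k := MorphismProperty.pullback_snd (P := @IsPreimmersion) _ _ inferInstance
  haveI : Flat k := MorphismProperty.pullback_snd (P := @Flat) _ _ inferInstance
  obtain ⟨U₂, hU₂, hU₂i⟩ := hgb
  haveI := hU₂i
  let U₃ : (Spec (CommRingCat.of A)).Opens := U ⊓ U₂
  have hU₃ : (U₃ : Set (Spec (CommRingCat.of A))).Nonempty := nonempty_preirreducible_inter U.2 U₂.2 hU hU₂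
  haveI : IsIso (f ∣_ U₃) :=
    ModLeray1.isIso_restrict_of_le_isoLocus f (inf_le_left.trans (PtBlow.le_isoLocus hUiso))
  haveI : IsIso ((g ≫ f) ∣_ U₃) :=
    ModLeray1.isIso_restrict_of_le_isoLocus _ (inf_le_right.trans (PtBlow.le_isoLocus hU₂i))
  let Vg : X.Opens := f ⁻¹ᵁ U₃
  haveI : IsIso (g ∣_ Vg) := PtBlow.isIso_restrict_left rfl U₃ inferInstance inferInstance
  have hVg : (Vg : Set X).Nonempty := PtBlow.nonempty_preimage hU₃ inferInstance
  have hηg : g (genericPoint X'') = genericPoint X := map_genericPoint_of_isIso_restrict g Vg hVg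
  haveI : IsIntegral W' := isIntegral_of_flat_preimmersion k (by
    have : genericPoint X ∈ Set.range j := by
      rw [Scheme.range_fromSpecStalk]; exact genericPoint_specializes x
    obtain ⟨s, hs⟩ := this
    obtain ⟨z, -, hz⟩ := Scheme.Pullback.exists_preimage_pullback (f := j) (g := g) s (genericPoint X'') (hs.trans hηg.symm)
    exact ⟨z, hz⟩)
  -- the map to the given modification
  obtain ⟨t, ht, -⟩ := hbS.2 (pullback j bX) (pullback.fst j bX) (by
    rw [← h𝒥I]; exact (BlowUpLib.isBlowUp_flat j hbX).1)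
  let q : W' ⟶ W := pullback.lift w' (k ≫ ν) (by
    rw [Category.assoc]; exact pullback.condition) ≫ t ≫ h
  have hq : q ≫ w = w' := by
    simp only [q, Category.assoc, hh, ht, pullback.lift_fst]
  haveI : IsProper w' := MorphismProperty.pullback_fst (P := @IsProper) _ _ inferInstance
  haveI : IsProper q := by
    haveI : IsProper (q ≫ w) := by rw [hq]; infer_instance
    exact IsProper.of_comp q w
  have hVq : ∃ V : W.Opens, (V : Set W).Nonempty ∧ IsIso (q ∣_ V) := by
    let Q : S.Opens := j ⁻¹ᵁ Vg ⊓ P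
    haveI : IsIso (w' ∣_ j ⁻¹ᵁ Vg) := isIso_fst_restrict j g Vg
    have hQ1 : IsIso (w ∣_ Q) :=
      ModLeray1.isIso_restrict_of_le_isoLocus w (inf_le_right.trans hPle)
    have hQ2 : IsIso (w' ∣_ Q) :=
      ModLeray1.isIso_restrict_of_le_isoLocus w' (inf_le_left.trans (PtBlow.le_isoLocus inferInstance))
    refine ⟨w ⁻¹ᵁ Q, PtBlow.nonempty_preimage ⟨genericPoint S, ?_, ?_⟩ hQ1, PtBlow.isIso_restrict_left hq Q hQ2 hQ1⟩
    · obtain ⟨s, hs⟩ : genericPoint X ∈ Set.range j := by
        rw [Scheme.range_fromSpecStalk]; exact genericPoint_specializes x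
      have he : j (genericPoint S) = genericPoint X :=
        (((genericPoint_specializes s).map j.continuous).trans (by rw [hs])).antisymm (genericPoint_specializes _) |>.eq
      show j (genericPoint S) ∈ Vg
      rw [he]
      exact ((genericPoint_spec X).mem_open_set_iff Vg.2).2 (by simpa using hVg)
    · intro hc
      obtain ⟨s, hs⟩ : genericPoint X ∈ Set.range j := by
        rw [Scheme.range_fromSpecStalk]; exact genericPoint_specializes x
      refine hxη ?_
      have h1 : j (genericPoint S) ⤳ j s := (genericPoint_specializes s).map j.continuous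
      rw [hs, show genericPoint S = IsLocalRing.closedPoint R from hc] at h1
      rw [show j (IsLocalRing.closedPoint R) = x from X.fromSpecStalk_closedPoint] at h1
      exact ((genericPoint_specializes x).antisymm h1).eq
  obtain ⟨V, hV, hVi⟩ := hVq
  haveI := hVi
  refine PtBlow.subsingleton_h1_of_dominated q (PtBlow.bijective_app_of_birational q hWn V hV) ?_
  -- vanishing upstairs by flat base change
  obtain ⟨O, hO, hxO, -⟩ := exists_isAffineOpen_mem_and_subset (X := X) (U := ⊤) (trivial : x ∈ (⊤ : X.Opens))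
  have hz := subsingleton_hu_preimage hdim hA f ⟨U, hU, hUiso⟩ g ⟨U₂, hU₂, hU₂i⟩ hXn hX''n hO
  let G : X''.Opens := g ⁻¹ᵁ O
  haveI : QuasiCompact g := inferInstance
  letI : (G : Scheme.{u}).Over (Spec (CommRingCat.of Γ(X, O))) := ⟨(g ∣_ O) ≫ hO.isoSpec.hom⟩
  letI : W'.Over (Spec (CommRingCat.of R)) := ⟨w'⟩
  haveI : CompactSpace (G : Scheme.{u}) :=
    isCompact_iff_compactSpace.1 (g.isCompact_preimage hO.isCompact)
  haveI : IsLocallyNoetherian X'' := LocallyOfFiniteType.isLocallyNoetherian (g ≫ f)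
  haveI : IsLocallyNoetherian (G : Scheme.{u}) := isLocallyNoetherian_of_isOpenImmersion G.ι
  haveI : QuasiSeparatedSpace (G : Scheme.{u}) := inferInstance
  let φ : CommRingCat.of Γ(X, O) ⟶ X.presheaf.stalk x := X.presheaf.germ O x hxO
  let s : S ⟶ (O : Scheme.{u}) := Spec.map φ ≫ hO.isoSpec.inv
  have hs : s ≫ O.ι = j := by
    simp only [s, j, Category.assoc]
    rw [hO.isoSpec_inv_ι]
    exact hO.fromSpecStalk_eq_fromSpecStalk hxO
  have hφ : φ.hom.Flat := by
    letI := TopCat.Presheaf.algebra_section_stalk X.presheaf (⟨x, hxO⟩ : O)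
    haveI := hO.isLocalization_stalk ⟨x, hxO⟩
    exact RingHom.flat_algebraMap_iff.2 (IsLocalization.flat (X.presheaf.stalk x) (hO.primeIdealOf ⟨x, hxO⟩).asIdeal.primeCompl)
  have hG := (isPullback_morphismRestrict g O).flip
  let g' : W' ⟶ (G : Scheme.{u}) := hG.lift k (w' ≫ s) (by rw [Category.assoc, hs]; exact pullback.condition.symm)
  have hsq : IsPullback g' w' (g ∣_ O) s := by
    refine IsPullback.of_right ?_ (hG.lift_snd _ _ _) hG
    rw [hs, hG.lift_fst]
    exact (IsPullback.of_hasPullback j g).flip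
  have hsq' : IsPullback g' w' ((g ∣_ O) ≫ hO.isoSpec.hom) (Spec.map φ) := by
    refine hsq.of_iso (Iso.refl _) (Iso.refl _) (Iso.refl _) hO.isoSpec (by simp) (by simp) (by simp) ?_
    simp [s]
  obtain ⟨e⟩ := W7FlatBC.nonempty_hh_baseChange_hom (A := Γ(X, O)) (B := R) φ.hom hφ g' hsq'
    (Coh.structureModule (G : Scheme.{u})) (StMod.isQCoh_structureModule _) 1
  obtain ⟨e₁⟩ := CohQC.hu_restrict (Coh.structureModule X'') G 1
  haveI : Subsingleton (Coh.HH (G : Scheme.{u}) (Coh.structureModule (G : Scheme.{u})) 1) :=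
    CohQC.hh_subsingleton_of_iso (asIso (LefDiv.oneU G)).symm 1 (e₁.symm.toEquiv.subsingleton_congr.2 hz)
  refine CohQC.hh_subsingleton_of_iso (FreeLite.pullUnitIso g') 1 ?_
  letI := φ.hom.toAlgebra
  haveI : Subsingleton (R ⊗[Γ(X, O)] Coh.HH (G : Scheme.{u}) (Coh.structureModule (G : Scheme.{u})) 1) := by
    refine subsingleton_of_forall_eq 0 fun z => ?_
    induction z using TensorProduct.induction_on with
    | zero => rfl
    | tmul a b => rw [Subsingleton.elim b 0, TensorProduct.tmul_zero]
    | add a b ha hb => rw [ha, hb, add_zero]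
  exact e.toEquiv.symm.subsingleton

end Groth.Agent.RatLocal
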