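import Groth.Agent.RatLocal.Normalise
import Groth.Agent.Nagata.Reduced
import Groth.Agent.Nagata.Noether
import Groth.Agent.Nakai.SemiAmple
import Groth.Agent.S0566
import Mathlib

/-!
An essentially finite type birational normal local algebra is a local ring on a normal modification.
-/

set_option autoImplicit false
set_option backward.isDefEq.respectTransparency false
set_option backward.isDefEq.respectTransparency.types false
set_option linter.style.haveILetI false
set_option maxHeartbeats 800000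

universe u

open CategoryTheory CategoryTheory.Limits AlgebraicGeometry TopologicalSpace

noncomputable section

namespace Groth.Agent.RatLocal

variable {A B : Type u} [CommRing A] [CommRing B] [IsDomain B] [Algebra A B]

/-- A finitely generated subalgebra inside a birational algebra becomes the base after inverting one element. -/
theorem exists_pow_mul_mem [IsDomain A] (T : Subalgebra A B) (hT : T.FG)
    (hfrac : ∀ b : B, ∃ a a' : A, a' ≠ 0 ∧ algebraMap A B a' * b = algebraMap A B a) :
    ∃ a : A, a ≠ 0 ∧ ∀ t ∈ T, ∃ (n : ℕ) (c : A), algebraMap A B (a ^ n) * t = algebraMap A B c := by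
  classical
  obtain ⟨s, rfl⟩ := hT
  choose num den hden heq using hfrac
  refine ⟨∏ t ∈ s, den t, Finset.prod_ne_zero_iff.2 fun t _ => hden t, fun t ht => ?_⟩
  induction ht using Algebra.adjoin_induction with
  | mem x hx =>
    obtain ⟨e, he⟩ : den x ∣ ∏ t ∈ s, den t := Finset.dvd_prod_of_mem _ hx
    exact ⟨1, e * num x, by rw [pow_one, he, map_mul, map_mul, ← heq x]; ring⟩
  | algebraMap r => exact ⟨0, r, by rw [pow_zero, map_one, one_mul]⟩
  | add x y _ _ hx hy =>
    obtain ⟨n, c, hc⟩ := hx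
    obtain ⟨m, d, hd⟩ := hy
    refine ⟨n + m, (∏ t ∈ s, den t) ^ m * c + (∏ t ∈ s, den t) ^ n * d, ?_⟩
    simp only [map_add, map_mul, map_pow] at hc hd ⊢
    rw [← hc, ← hd, pow_add]
    ring
  | mul x y _ _ hx hy =>
    obtain ⟨n, c, hc⟩ := hx
    obtain ⟨m, d, hd⟩ := hy
    refine ⟨n + m, c * d, ?_⟩
    simp only [map_mul, map_pow] at hc hd ⊢
    rw [← hc, ← hd, pow_add]
    ring

/-- A local algebra which is essentially of finite type, normal and birational is a local ring of a normal
modification. -/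
theorem exists_model [IsDomain A] [IsNoetherianRing A] [IsIntegrallyClosed A] (hN : CAlg.IsNagata A)
    [IsLocalRing B] [IsIntegrallyClosed B] (hinj : Function.Injective (algebraMap A B))
    [Algebra.EssFiniteType A B]
    (hfrac : ∀ b : B, ∃ a a' : A, a' ≠ 0 ∧ algebraMap A B a' * b = algebraMap A B a) :
    ∃ (X : Scheme.{u}) (f : X ⟶ Spec (CommRingCat.of A)) (x : X), IsProper f ∧ IsIntegral X ∧ Pi1.IsNormalScheme X ∧
      (∃ U : (Spec (CommRingCat.of A)).Opens, (U : Set (Spec (CommRingCat.of A))).Nonempty ∧ IsIso (f ∣_ U)) ∧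
      Nonempty (X.presheaf.stalk x ≃+* B) := by
  classical
  let S₀ := Algebra.EssFiniteType.subalgebra A B
  have hN₀ : CAlg.IsNagata S₀ := S0566.result A hN S₀
  haveI : Algebra.EssFiniteType S₀ B := Algebra.EssFiniteType.of_comp A S₀ B
  haveI : Module.Finite S₀ (integralClosure S₀ B) := Nagata.finite_closure_reduced hN₀
  let T : Type u := integralClosure S₀ B
  haveI : Algebra.FiniteType A T := Algebra.FiniteType.trans (S := S₀) inferInstance inferInstance
  let ι : T →+* B := (integralClosure S₀ B).val.toRingHom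
  have hι : Function.Injective ι := Subtype.val_injective
  have hS₀T : ∀ s : S₀, ι (algebraMap S₀ T s) = (s : B) := fun _ => rfl
  haveI hTnorm : IsIntegrallyClosed T := by
    refine (isIntegrallyClosed_iff (FractionRing T)).2 fun {z} hz => ?_
    obtain ⟨p, q, hq, rfl⟩ := IsFractionRing.div_surjective (A := T) z
    have hq0 : ι q ≠ 0 := (map_ne_zero_iff _ hι).2 (nonZeroDivisors.ne_zero hq)
    let ψ : FractionRing T →+* FractionRing B :=
      IsFractionRing.lift (g := (algebraMap B (FractionRing B)).comp ι) ((IsFractionRing.injective B (FractionRing B)).comp hι)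
    have hψ : ∀ t : T, ψ (algebraMap T (FractionRing T) t) = algebraMap B (FractionRing B) (ι t) :=
      fun t => IsFractionRing.lift_algebraMap _ t
    let ψa : FractionRing T →ₐ[T] FractionRing B := { ψ with commutes' := hψ }
    have hz' : IsIntegral B (ψ (algebraMap T _ p / algebraMap T _ q)) := (hz.map ψa).tower_top
    obtain ⟨b, hb⟩ := IsIntegrallyClosed.algebraMap_eq_of_integral hz'
    have hbT : IsIntegral T b := by
      rw [← isIntegral_algebraMap_iff (IsFractionRing.injective B (FractionRing B)), hb]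
      exact hz.map ψa
    haveI : IsScalarTower S₀ T B := IsScalarTower.of_algebraMap_eq fun _ => rfl
    haveI : Algebra.IsIntegral S₀ T := IsIntegralClosure.isIntegral_algebra S₀ B
    have hbS : b ∈ integralClosure S₀ B := isIntegral_trans b hbT
    refine ⟨⟨b, hbS⟩, ?_⟩
    apply ψ.injective
    rw [hψ]
    exact hb
  let q : Ideal T := (IsLocalRing.maximalIdeal B).comap ι
  haveI : q.IsPrime := Ideal.comap_isPrime _ _
  haveI hloc : IsLocalization q.primeCompl B := by
    constructor
    constructor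
    · rintro ⟨t, ht⟩
      exact (IsLocalRing.notMem_maximalIdeal.1 ht)
    · intro b
      obtain ⟨⟨s, m⟩, hsm⟩ := IsLocalization.surj (Algebra.EssFiniteType.submonoid A B) b
      refine ⟨⟨algebraMap S₀ T s, algebraMap S₀ T m.1, ?_⟩, hsm⟩
      show ι (algebraMap S₀ T m.1) ∉ IsLocalRing.maximalIdeal B
      exact fun h => h (IsLocalization.map_units B m)
    · intro s t h
      exact ⟨1, by rw [hι h]⟩
  -- a compactification of the affine model
  let TC : CommRingCat.{u} := CommRingCat.of T
  let gT : Spec TC ⟶ Spec (CommRingCat.of A) := Spec.map (CommRingCat.ofHom (algebraMap A T))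
  haveI : LocallyOfFiniteType gT := by
    rw [HasRingHomProperty.Spec_iff (P := @LocallyOfFiniteType)]
    exact RingHom.finiteType_algebraMap.2 inferInstance
  haveI : IsIntegral (Spec TC) := inferInstanceAs (IsIntegral (Spec (CommRingCat.of T)))
  obtain ⟨Y, j₀, p, hj₀, hj₀q, hp, hjp⟩ := Nagata.exists_compactification gT
  haveI := hj₀; haveI := hj₀q; haveI := hp
  haveI : IsIntegral j₀.image := Nakai.isIntegral_image j₀
  let c : j₀.image ⟶ Spec (CommRingCat.of A) := j₀.imageι ≫ p
  haveI : IsProper c := inferInstance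
  haveI : IsOpenImmersion j₀.toImage := inferInstance
  have hjc : j₀.toImage ≫ c = gT := by simp only [c, Scheme.Hom.toImage_imageι_assoc, hjp]
  -- birationality
  obtain ⟨a, ha, haT⟩ := exists_pow_mul_mem ((⊤ : Subalgebra A T).map ((integralClosure S₀ B).val.restrictScalars A))
    ((Algebra.FiniteType.out).map _) hfrac
  have haB : algebraMap A B a ≠ 0 := (map_ne_zero_iff _ hinj).2 ha
  let D : (Spec (CommRingCat.of A)).Opens := PrimeSpectrum.basicOpen a
  haveI hgTD : IsIso (gT ∣_ D) := by
    rw [← MorphismProperty.isomorphisms.iff, (MorphismProperty.isomorphisms Scheme.{u}).arrow_mk_iso_iff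
      (SpecMapRestrictBasicOpenIso (CommRingCat.ofHom (algebraMap A T)) a), MorphismProperty.isomorphisms.iff]
    haveI : IsIso (CommRingCat.ofHom (R := Localization.Away a) (S := Localization.Away ((CommRingCat.ofHom (algebraMap A T)).hom a)) (Localization.awayMap (CommRingCat.ofHom (algebraMap A T)).hom a)) := by
      rw [ConcreteCategory.isIso_iff_bijective]
      have hcomm : ∀ d : A, ι (algebraMap A T d) = algebraMap A B d := fun _ => rfl
      constructor
      · refine IsLocalization.map_injective_of_injective _ _ _ ?_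
        exact Function.Injective.of_comp (f := ι) (hinj : Function.Injective (ι ∘ algebraMap A T))
      · intro z
        obtain ⟨⟨t, ⟨-, n, rfl⟩⟩, rfl⟩ := IsLocalization.mk'_surjective (Submonoid.powers (algebraMap A T a)) z
        obtain ⟨m, d, hmd⟩ := haT (ι t) ⟨t, trivial, rfl⟩
        refine ⟨IsLocalization.mk' _ d (⟨a ^ (n + m), _, rfl⟩ : Submonoid.powers a), ?_⟩
        show IsLocalization.Away.map _ _ _ a _ = _
        rw [IsLocalization.Away.map, IsLocalization.map_mk', IsLocalization.mk'_eq_iff_eq]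
        refine congrArg _ (hι ?_)
        simp only [map_mul, map_pow, CommRingCat.hom_ofHom, hcomm] at hmd ⊢
        rw [pow_add, ← hmd]
        ring
    infer_instance
  have hDne : (D : Set (Spec (CommRingCat.of A))).Nonempty :=
    ⟨⟨⊥, Ideal.bot_prime⟩, fun h => ha (by simpa using h)⟩
  have hcD : IsIso (c ∣_ D) := by
    haveI hs : IsOpenImmersion ((inv (gT ∣_ D) ≫ (gT ⁻¹ᵁ D).ι) ≫ j₀.toImage) := inferInstance
    let σ₀ := (inv (gT ∣_ D) ≫ (gT ⁻¹ᵁ D).ι) ≫ j₀.toImage
    have hσ₀ : σ₀ ≫ c = D.ι := by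
      simp only [σ₀, Category.assoc, hjc]
      rw [← morphismRestrict_ι, IsIso.inv_hom_id_assoc]
    let σ : (D : Scheme.{u}) ⟶ (c ⁻¹ᵁ D : Scheme.{u}) := IsOpenImmersion.lift (c ⁻¹ᵁ D).ι σ₀ (by
      rintro _ ⟨y, rfl⟩
      rw [Scheme.Opens.range_ι]
      show c (σ₀ y) ∈ D
      rw [← Scheme.Hom.comp_apply, hσ₀]
      exact y.2)
    have hσ : σ ≫ (c ∣_ D) = 𝟙 _ := by
      rw [← cancel_mono D.ι, Category.assoc, morphismRestrict_ι, ← Category.assoc, IsOpenImmersion.lift_fac, hσ₀,
        Category.id_comp]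
    haveI : IsOpenImmersion σ := by
      haveI : IsOpenImmersion (σ ≫ (c ⁻¹ᵁ D).ι) := by rw [IsOpenImmersion.lift_fac]; exact hs
      exact IsOpenImmersion.of_comp σ (c ⁻¹ᵁ D).ι
    haveI : IsClosedImmersion σ := by
      haveI : IsClosedImmersion (σ ≫ (c ∣_ D)) := by rw [hσ]; infer_instance
      exact IsClosedImmersion.of_comp σ (c ∣_ D)
    haveI : Surjective σ := by
      refine ⟨fun z => ?_⟩
      haveI : Nonempty (c ⁻¹ᵁ D : Scheme.{u}) := ⟨z⟩
      haveI : IsIntegral (c ⁻¹ᵁ D : Scheme.{u}) := isIntegral_of_isOpenImmersion (c ⁻¹ᵁ D).ι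
      obtain ⟨d, hd⟩ := hDne
      have h := IsClopen.eq_univ ⟨σ.isClosedEmbedding.isClosed_range, σ.isOpenEmbedding.isOpen_range⟩
        ⟨σ ⟨d, hd⟩, _, rfl⟩
      rw [Set.range_eq_univ] at h
      exact h z
    haveI : IsIso σ := isIso_of_isClosedImmersion_of_surjective σ
    rw [show c ∣_ D = inv σ from (IsIso.eq_inv_comp σ).2 hσ |>.trans (Category.comp_id _)]
    infer_instance
  obtain ⟨X, ν, hν, hXi, hXn, hXb, hνiso⟩ := exists_normal_over hN c ⟨D, hDne, hcD⟩
  haveI := hXi
  let x₀ : Spec TC := (⟨q, inferInstance⟩ : PrimeSpectrum T)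
  let Ω : j₀.image.Opens := j₀.toImage.opensRange
  haveI : IsIso (ν ∣_ Ω) := by
    refine hνiso Ω ⟨_, x₀, rfl⟩ ?_
    rintro _ ⟨y, rfl⟩
    haveI := (RatBlow.isNormal_spec (A := T) y).2
    exact IsIntegrallyClosed.of_equiv (asIso (j₀.toImage.stalkMap y)).symm.commRingCatIsoToRingEquiv
  obtain ⟨w, hw⟩ := (ν ∣_ Ω).surjective ⟨j₀.toImage x₀, x₀, rfl⟩
  refine ⟨X, ν ≫ c, w.1, hν, hXi, hXn, hXb, ?_⟩
  let Φ := ν ∣_ Ω
  let e₁ : X.presheaf.stalk w.1 ≅ (Ω : Scheme.{u}).presheaf.stalk (Φ w) :=
    ((ν ⁻¹ᵁ Ω).stalkIso w).symm ≪≫ (asIso (Φ.stalkMap w)).symm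
  let e₂ : (Ω : Scheme.{u}).presheaf.stalk (Φ w) ≅ (Spec TC).presheaf.stalk x₀ :=
    Ω.stalkIso (Φ w) ≪≫ j₀.image.presheaf.stalkCongr (.of_eq (by rw [hw])) ≪≫ asIso (j₀.toImage.stalkMap x₀)
  refine ⟨(e₁ ≪≫ e₂).commRingCatIsoToRingEquiv.trans ?_⟩
  letI : Algebra T ((Spec TC).presheaf.stalk x₀) := StructureSheaf.stalkAlgebra T x₀
  haveI : IsLocalization q.primeCompl ((Spec TC).presheaf.stalk x₀) :=
    StructureSheaf.IsLocalization.to_stalk T x₀
  exact (IsLocalization.algEquiv q.primeCompl ((Spec TC).presheaf.stalk x₀) B).toRingEquiv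

end Groth.Agent.RatLocal
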