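import Groth.Agent.NormCoker.Basic
import Groth.Agent.NormChar.Basic
import Groth.Agent.NormSmoothBC.Basic
import Groth.Agent.S0566
import Groth.Agent.RatBlow.Base
import Groth.Agent.PtBlow.Birat
import Groth.Agent.ModLeray1.Support
import Mathlib

/-!
Normal modifications: the normalisation of a modification, rationality along isomorphisms of rings.
-/

set_option autoImplicit false
set_option backward.isDefEq.respectTransparency false
set_option backward.isDefEq.respectTransparency.types false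
set_option linter.style.haveILetI false

universe u

open CategoryTheory CategoryTheory.Limits AlgebraicGeometry TopologicalSpace

noncomputable section

namespace Groth.Agent.RatLocal

variable {A : Type u} [CommRing A] [IsDomain A] [IsNoetherianRing A] [IsIntegrallyClosed A]

/-- The normalisation of a modification is a finite modification, unchanged over every normal open. -/
theorem exists_normal_over_finite (hN : CAlg.IsNagata A) {Z : Scheme.{u}} [IsIntegral Z]
    (c : Z ⟶ Spec (CommRingCat.of A)) [IsProper c]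
    (hc : ∃ U : (Spec (CommRingCat.of A)).Opens, (U : Set (Spec (CommRingCat.of A))).Nonempty ∧ IsIso (c ∣_ U)) :
    ∃ (Y : Scheme.{u}) (ν : Y ⟶ Z), IsFinite ν ∧ IsProper (ν ≫ c) ∧ IsIntegral Y ∧ Pi1.IsNormalScheme Y ∧
      (∃ U : (Spec (CommRingCat.of A)).Opens, (U : Set (Spec (CommRingCat.of A))).Nonempty ∧ IsIso ((ν ≫ c) ∣_ U)) ∧
      ∀ V : Z.Opens, (V : Set Z).Nonempty → (∀ z ∈ V, IsIntegrallyClosed (Z.presheaf.stalk z)) →
        IsIso (ν ∣_ V) := by
  obtain ⟨U, hU, hci⟩ := hc
  haveI := hci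
  let S := Spec (CommRingCat.of A)
  haveI : IsLocallyNoetherian Z := LocallyOfFiniteType.isLocallyNoetherian c
  haveI : CompactSpace Z := QuasiCompact.compactSpace_of_compactSpace c
  haveI : AlgebraicGeometry.IsNoetherian Z := {}
  haveI : Z.IsSeparated := ⟨by
    rw [← terminal.comp_from c]; infer_instance⟩
  haveI : QuasiCompact (Z.fromSpecStalk (genericPoint Z)) := inferInstance
  haveI : QuasiSeparated (Z.fromSpecStalk (genericPoint Z)) := inferInstance
  haveI hfin : IsFinite (Curv2.normalizationι Z) := by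
    refine NormCoker.isFinite_normalizationι Z fun V => ?_
    letI : Algebra A Γ(Z, V.1) :=
      ((c.appLE ⊤ V.1 le_top).hom.comp (Scheme.ΓSpecIso (CommRingCat.of A)).inv.hom).toAlgebra
    haveI : Algebra.FiniteType A Γ(Z, V.1) := by
      rw [← RingHom.finiteType_algebraMap, RingHom.algebraMap_toAlgebra]
      exact (c.finiteType_appLE (isAffineOpen_top _) V.2 (le_top : V.1 ≤ c ⁻¹ᵁ ⊤)).comp
        (RingHom.FiniteType.of_surjective _
          (Scheme.ΓSpecIso (CommRingCat.of A)).symm.commRingCatIsoToRingEquiv.surjective)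
    exact Groth.Agent.S0566.result A hN Γ(Z, V.1)
  haveI : IsProper (Curv2.normalizationι Z) := inferInstance
  haveI : IsIntegral (Curv2.normalization Z) := NormSmoothBC.isIntegral_normalization
  refine ⟨Curv2.normalization Z, Curv2.normalizationι Z, hfin, inferInstance, inferInstance, NormSmoothBC.isNormal,
    ⟨U, hU, ?_⟩, fun V hV hn => NormChar.exists_open_iso Z V hV hn⟩
  haveI : IsIso (Curv2.normalizationι Z ∣_ c ⁻¹ᵁ U) := by
    refine NormChar.exists_open_iso Z (c ⁻¹ᵁ U) (PtBlow.nonempty_preimage hU hci) fun x hx => ?_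
    let z : ((c ⁻¹ᵁ U : Z.Opens) : Scheme.{u}) := ⟨x, hx⟩
    haveI := (RatBlow.isNormal_spec (A := A) ((c ∣_ U) z).1).2
    haveI : IsIntegrallyClosed ((U : Scheme.{u}).presheaf.stalk ((c ∣_ U) z)) :=
      IsIntegrallyClosed.of_equiv (U.stalkIso ((c ∣_ U) z)).symm.commRingCatIsoToRingEquiv
    haveI : IsIntegrallyClosed (((c ⁻¹ᵁ U : Z.Opens) : Scheme.{u}).presheaf.stalk z) :=
      IsIntegrallyClosed.of_equiv (asIso ((c ∣_ U).stalkMap z)).commRingCatIsoToRingEquiv
    exact IsIntegrallyClosed.of_equiv ((c ⁻¹ᵁ U).stalkIso z).commRingCatIsoToRingEquiv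
  rw [morphismRestrict_comp]
  infer_instance

/-- The normalisation of a modification is a modification, unchanged over every normal open. -/
theorem exists_normal_over (hN : CAlg.IsNagata A) {Z : Scheme.{u}} [IsIntegral Z]
    (c : Z ⟶ Spec (CommRingCat.of A)) [IsProper c]
    (hc : ∃ U : (Spec (CommRingCat.of A)).Opens, (U : Set (Spec (CommRingCat.of A))).Nonempty ∧ IsIso (c ∣_ U)) :
    ∃ (Y : Scheme.{u}) (ν : Y ⟶ Z), IsProper (ν ≫ c) ∧ IsIntegral Y ∧ Pi1.IsNormalScheme Y ∧
      (∃ U : (Spec (CommRingCat.of A)).Opens, (U : Set (Spec (CommRingCat.of A))).Nonempty ∧ IsIso ((ν ≫ c) ∣_ U)) ∧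
      ∀ V : Z.Opens, (V : Set Z).Nonempty → (∀ z ∈ V, IsIntegrallyClosed (Z.presheaf.stalk z)) →
        IsIso (ν ∣_ V) := by
  obtain ⟨Y, ν, -, h⟩ := exists_normal_over_finite hN c hc
  exact ⟨Y, ν, h⟩

/-- Rationality does not depend on the ring up to isomorphism. -/
theorem isRationalSing_of_ringEquiv {R S : Type u} [CommRing R] [CommRing S] (e : R ≃+* S)
    (h : Curv2.IsRationalSing R) : Curv2.IsRationalSing S := by
  intro X f hf hX hn hbir
  obtain ⟨U, hU, hiso⟩ := hbir
  let φ : Spec (CommRingCat.of S) ⟶ Spec (CommRingCat.of R) := Spec.map e.toCommRingCatIso.hom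
  haveI : IsIso φ := inferInstance
  haveI := hf
  refine h X (f ≫ φ) inferInstance hX hn ⟨φ ''ᵁ U, ?_, ?_⟩
  · obtain ⟨x, hx⟩ := hU
    exact ⟨φ x, x, hx, rfl⟩
  · haveI := hiso
    rw [morphismRestrict_comp]
    have hpre : φ ⁻¹ᵁ (φ ''ᵁ U) = U := φ.preimage_image_eq U
    haveI : IsIso (f ∣_ φ ⁻¹ᵁ (φ ''ᵁ U)) := by rw [hpre]; exact hiso
    infer_instance

end Groth.Agent.RatLocal
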